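import Mathlib
import Cfsg.Agent.Helper99.Pron.Defs

/-!
# Block BU1 of S2225/S2226 (helper99): the semidihedral Sylow 2-subgroup of `GU_2(q)`, `q ≡ 1 (4)`

Definitions.  `F` is a field (later finite with `q²` elements, `2 ≠ 0`).

* `Lam2 F`   : the units of `F` of 2-power order;
* `dgl a b`  : `diag(a, b)` in `GL (Fin 2) F`;
* `tau`      : `[[0,1],[1,0]]`;
* `Dc q l m` : `l, m ∈ Lam2 F`, `m * l^q = 1`, `l * m^q = 1` (so `m = l^(-q)`, `l = m^(-q)`);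
* `Pp q`     : `{dgl l m, tau * dgl l m : Dc q l m}`, the group `P'` in the hyperbolic basis;
* `Jm`       : the Gram matrix `[[0,1],[1,0]]` of the hyperbolic form;
* `gz ζ`     : the base change `[[1, 1/2],[ζ, -ζ/2]]` with `gzᵀ gz^(q) = Jm` when `ζ^(q+1) = -1`;
* `cj g P`   : the conjugate subgroup `g P g⁻¹`.
-/

set_option autoImplicit false

namespace Cfsg.Agent.Helper68.PronBU1

open Matrix Cfsg.Agent.Helper99.Pron

variable {F : Type*} [Field F]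

/-- the units of 2-power order -/
def Lam2 (F : Type*) [Field F] : Subgroup Fˣ where
  carrier := {l | ∃ k : ℕ, l ^ (2 ^ k) = 1}
  one_mem' := ⟨0, by simp⟩
  mul_mem' := by
    rintro a b ⟨j, hj⟩ ⟨k, hk⟩
    refine ⟨j + k, ?_⟩
    rw [mul_pow, pow_add, pow_mul, hj, one_pow, mul_comm (2 ^ j), pow_mul, hk, one_pow, one_mul]
  inv_mem' := by
    rintro a ⟨k, hk⟩
    exact ⟨k, by rw [inv_pow, hk, inv_one]⟩

theorem mem_Lam2 {l : Fˣ} : l ∈ Lam2 F ↔ ∃ k : ℕ, l ^ (2 ^ k) = 1 := Iff.rfl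

/-- `diag(a, b)` -/
def dgl (a b : Fˣ) : GL (Fin 2) F :=
  ⟨!![(a : F), 0; 0, (b : F)], !![((a⁻¹ : Fˣ) : F), 0; 0, ((b⁻¹ : Fˣ) : F)],
    by simp [Matrix.one_fin_two],
    by simp [Matrix.one_fin_two]⟩

/-- the swap `[[0,1],[1,0]]` -/
def tau : GL (Fin 2) F :=
  ⟨!![0, 1; 1, 0], !![0, 1; 1, 0],
    by simp [Matrix.one_fin_two],
    by simp [Matrix.one_fin_two]⟩

@[simp] theorem dgl_val (a b : Fˣ) :
    ((dgl a b : GL (Fin 2) F) : Matrix (Fin 2) (Fin 2) F) = !![(a : F), 0; 0, (b : F)] := rfl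

@[simp] theorem tau_val :
    ((tau : GL (Fin 2) F) : Matrix (Fin 2) (Fin 2) F) = !![0, 1; 1, 0] := rfl

theorem dgl_mul (a b a' b' : Fˣ) : (dgl a b : GL (Fin 2) F) * dgl a' b' = dgl (a * a') (b * b') := by
  apply Units.ext
  simp

theorem dgl_one : (dgl 1 1 : GL (Fin 2) F) = 1 := by
  apply Units.ext
  simp [Matrix.one_fin_two]

theorem dgl_inv (a b : Fˣ) : (dgl a b : GL (Fin 2) F)⁻¹ = dgl a⁻¹ b⁻¹ := by
  rw [inv_eq_iff_mul_eq_one, dgl_mul, mul_inv_cancel, mul_inv_cancel, dgl_one]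

theorem dgl_pow (a b : Fˣ) (n : ℕ) : (dgl a b : GL (Fin 2) F) ^ n = dgl (a ^ n) (b ^ n) := by
  induction n with
  | zero => simp [dgl_one]
  | succ n ih => rw [pow_succ, ih, dgl_mul, pow_succ, pow_succ]

theorem tau_mul_tau : (tau : GL (Fin 2) F) * tau = 1 := by
  apply Units.ext
  simp [Matrix.one_fin_two]

theorem tau_inv : (tau : GL (Fin 2) F)⁻¹ = tau := by
  rw [inv_eq_iff_mul_eq_one, tau_mul_tau]

theorem dgl_mul_tau (a b : Fˣ) : (dgl a b : GL (Fin 2) F) * tau = tau * dgl b a := by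
  apply Units.ext
  simp

theorem dgl_injective {a b a' b' : Fˣ} (h : (dgl a b : GL (Fin 2) F) = dgl a' b') :
    a = a' ∧ b = b' := by
  have h1 := congrArg (fun g : GL (Fin 2) F => (g : Matrix (Fin 2) (Fin 2) F)) h
  simp only [dgl_val] at h1
  have h00 := congrFun (congrFun h1 0) 0
  have h11 := congrFun (congrFun h1 1) 1
  simp at h00 h11
  exact ⟨Units.ext h00, Units.ext h11⟩

theorem dgl_ne_tau_mul (a b a' b' : Fˣ) : (dgl a b : GL (Fin 2) F) ≠ tau * dgl a' b' := by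
  intro h
  have h1 := congrArg (fun g : GL (Fin 2) F => (g : Matrix (Fin 2) (Fin 2) F)) h
  simp only [Units.val_mul, dgl_val, tau_val, Matrix.mul_fin_two] at h1
  have h00 := congrFun (congrFun h1 0) 0
  simp at h00

theorem sc_eq_dgl (l : Fˣ) : (sc l : GL (Fin 2) F) = dgl l l := by
  apply Units.ext
  rw [sc_val, dgl_val, Matrix.one_fin_two]
  ext i j
  fin_cases i <;> fin_cases j <;> simp

/-- the condition cutting out the diagonal part of `P'` -/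
def Dc (q : ℕ) (l m : Fˣ) : Prop := l ∈ Lam2 F ∧ m ∈ Lam2 F ∧ m * l ^ q = 1 ∧ l * m ^ q = 1

theorem Dc.one (q : ℕ) : Dc q (1 : Fˣ) 1 := ⟨(Lam2 F).one_mem, (Lam2 F).one_mem, by simp, by simp⟩

theorem Dc.symm {q : ℕ} {l m : Fˣ} (h : Dc q l m) : Dc q m l := ⟨h.2.1, h.1, h.2.2.2, h.2.2.1⟩

theorem Dc.mul {q : ℕ} {l m l' m' : Fˣ} (h : Dc q l m) (h' : Dc q l' m') :
    Dc q (l * l') (m * m') := by
  refine ⟨(Lam2 F).mul_mem h.1 h'.1, (Lam2 F).mul_mem h.2.1 h'.2.1, ?_, ?_⟩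
  · rw [mul_pow, mul_mul_mul_comm, h.2.2.1, h'.2.2.1, one_mul]
  · rw [mul_pow, mul_mul_mul_comm, h.2.2.2, h'.2.2.2, one_mul]

theorem Dc.inv {q : ℕ} {l m : Fˣ} (h : Dc q l m) : Dc q l⁻¹ m⁻¹ := by
  refine ⟨(Lam2 F).inv_mem h.1, (Lam2 F).inv_mem h.2.1, ?_, ?_⟩
  · rw [inv_pow, ← mul_inv, h.2.2.1, inv_one]
  · rw [inv_pow, ← mul_inv, h.2.2.2, inv_one]

/-- the group `P'` (hyperbolic basis) -/
def Pp (q : ℕ) : Subgroup (GL (Fin 2) F) where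
  carrier := {g | ∃ l m : Fˣ, Dc q l m ∧ (g = dgl l m ∨ g = tau * dgl l m)}
  one_mem' := ⟨1, 1, Dc.one q, Or.inl dgl_one.symm⟩
  mul_mem' := by
    rintro _ _ ⟨l, m, h, rfl | rfl⟩ ⟨l', m', h', rfl | rfl⟩
    · exact ⟨l * l', m * m', h.mul h', Or.inl (dgl_mul _ _ _ _)⟩
    · refine ⟨m * l', l * m', h.symm.mul h', Or.inr ?_⟩
      rw [← mul_assoc, dgl_mul_tau, mul_assoc, dgl_mul]
    · refine ⟨l * l', m * m', h.mul h', Or.inr ?_⟩
      rw [mul_assoc, dgl_mul]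
    · refine ⟨m * l', l * m', h.symm.mul h', Or.inl ?_⟩
      rw [mul_assoc, ← mul_assoc (dgl l m), dgl_mul_tau, mul_assoc, dgl_mul, ← mul_assoc,
        tau_mul_tau, one_mul]
  inv_mem' := by
    rintro _ ⟨l, m, h, rfl | rfl⟩
    · exact ⟨l⁻¹, m⁻¹, h.inv, Or.inl (dgl_inv _ _)⟩
    · refine ⟨m⁻¹, l⁻¹, h.symm.inv, Or.inr ?_⟩
      rw [_root_.mul_inv_rev, tau_inv, dgl_inv, dgl_mul_tau]

theorem mem_Pp {q : ℕ} {g : GL (Fin 2) F} :
    g ∈ Pp (F := F) q ↔ ∃ l m : Fˣ, Dc q l m ∧ (g = dgl l m ∨ g = tau * dgl l m) := Iff.rfl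

theorem dgl_mem_Pp {q : ℕ} {l m : Fˣ} (h : Dc q l m) : dgl l m ∈ Pp (F := F) q :=
  ⟨l, m, h, Or.inl rfl⟩

theorem tau_dgl_mem_Pp {q : ℕ} {l m : Fˣ} (h : Dc q l m) : tau * dgl l m ∈ Pp (F := F) q :=
  ⟨l, m, h, Or.inr rfl⟩

theorem tau_mem_Pp (q : ℕ) : (tau : GL (Fin 2) F) ∈ Pp (F := F) q :=
  ⟨1, 1, Dc.one q, Or.inr (by rw [dgl_one, mul_one])⟩

/-- the Gram matrix of the hyperbolic form -/
def Jm : Matrix (Fin 2) (Fin 2) F := !![0, 1; 1, 0]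

/-- the base change matrix `[[1, 1/2],[ζ, -ζ/2]]` -/
def gzM (ζ : F) : Matrix (Fin 2) (Fin 2) F := !![1, 2⁻¹; ζ, -ζ * 2⁻¹]

theorem det_gzM (ζ : F) (h2 : (2 : F) ≠ 0) : (gzM ζ).det = -ζ := by
  rw [gzM, Matrix.det_fin_two_of]
  field_simp
  ring

/-- the base change as an element of `GL` -/
noncomputable def gz (ζ : F) (h2 : (2 : F) ≠ 0) (hζ : ζ ≠ 0) : GL (Fin 2) F :=
  Matrix.GeneralLinearGroup.mkOfDetNeZero (gzM ζ) (by rw [det_gzM ζ h2]; exact neg_ne_zero.2 hζ)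

@[simp] theorem gz_val (ζ : F) (h2 : (2 : F) ≠ 0) (hζ : ζ ≠ 0) :
    ((gz ζ h2 hζ : GL (Fin 2) F) : Matrix (Fin 2) (Fin 2) F) = gzM ζ := rfl

/-- the conjugate subgroup `g P g⁻¹` -/
def cj (g : GL (Fin 2) F) (P : Subgroup (GL (Fin 2) F)) : Subgroup (GL (Fin 2) F) :=
  P.map (MulAut.conj g).toMonoidHom

theorem mem_cj {g : GL (Fin 2) F} {P : Subgroup (GL (Fin 2) F)} {a : GL (Fin 2) F} :
    a ∈ cj g P ↔ ∃ b ∈ P, g * b * g⁻¹ = a := by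
  unfold cj
  rw [Subgroup.mem_map]
  rfl

end Cfsg.Agent.Helper68.PronBU1
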