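import Mathlib
import Cfsg.Agent.Helper68.PronBU1.Defs
import Cfsg.Agent.Helper35.SuBNZETA
import Cfsg.Agent.Helper35.SuBNLAM
import Cfsg.Agent.Helper10.PronBU1_FO
import Cfsg.Agent.Helper10.PronBU1_FA
import Cfsg.Agent.Helper63.PronBU1_MC6
import Cfsg.Agent.Helper63.PronBU1_MN1
import Cfsg.Agent.Helper12.PronBU1_MU2
import Cfsg.Agent.Helper12.PronBU1_MI
import Cfsg.Agent.Helper64.PronBU1_FR
import Cfsg.Agent.Helper64.PronBU1_MN3
import Cfsg.Agent.Helper53.PronBU1_FG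
import Cfsg.Agent.Helper53.PronBU1_MU3
import Cfsg.Agent.Helper87.PronBU1_FQ
import Cfsg.Agent.Helper87.PronBU1_MT
import Cfsg.Agent.Helper66.PronBU1_FI
import Cfsg.Agent.Helper48.PronBU1_FE
import Cfsg.Agent.Helper48.PronBU1_MU1
import Cfsg.Agent.Helper46.PronBU1_MN2

/-!
# Block BU1 of S2225/S2226 (helper99 #15281): assembly of `exists_SD_unitary`

Leaves by helper10 (FO, FA), helper63 (MC6, MN1), helper12 (MU2, MI), helper64 (FR, MN3),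
helper53 (FG, MU3), helper87 (FQ, MT), helper66 (FI), helper48 (FE, MU1), helper46 (MN2).
-/

set_option autoImplicit false
set_option linter.unusedVariables false
set_option linter.unusedSectionVars false

namespace Cfsg.Agent.Helper68.PronBU1

open Matrix Cfsg.Agent.Helper99.Pron Cfsg.Agent.Helper68.PronBU1

variable {F : Type*} [Field F]

/-- (FP) [helper68] -/
theorem units_pow_card [Fintype F] (q : ℕ) (hF : Fintype.card F = q ^ 2) (l : Fˣ) :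
    l ^ (q ^ 2 - 1) = 1 := by
  classical
  rw [← hF, ← Fintype.card_units]
  exact pow_card_eq_one

theorem units_pow_card' [Fintype F] (q : ℕ) (hF : Fintype.card F = q ^ 2) (l : Fˣ) :
    l ^ (q ^ 2) = l := by
  apply Units.ext
  rw [Units.val_pow_eq_pow_val, ← hF, FiniteField.pow_card]


/-! ## Assembly [helper68] -/

/-- the standard parameter pair -/
theorem Dc_std (q : ℕ) (hP : ∀ l : Fˣ, l ^ (q ^ 2) = l) {l : Fˣ} (hl : l ∈ Lam2 F) :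
    Dc q l (l ^ q)⁻¹ :=
  ⟨hl, (Lam2 F).inv_mem ((Lam2 F).pow_mem hl q), inv_mul_cancel _,
    by rw [inv_pow, ← pow_mul, ← sq, hP, mul_inv_cancel]⟩

theorem neg_one_ne_one_units (h2 : (2 : F) ≠ 0) : (-1 : Fˣ) ≠ 1 := by
  intro h
  have h7 : ((-1 : Fˣ) : F) = ((1 : Fˣ) : F) := congrArg _ h
  simp only [Units.val_neg, Units.val_one] at h7
  apply h2
  linear_combination (-1 : F) * h7

/-- (MS) -/
theorem sc_mem_Pp (q : ℕ) (l : Fˣ) (hl : l ∈ Lam2 F) (h : l ^ (q + 1) = 1) :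
    (sc l : GL (Fin 2) F) ∈ Pp (F := F) q := by
  rw [sc_eq_dgl]
  have h' : l * l ^ q = 1 := by rw [← pow_succ', h]
  exact dgl_mem_Pp ⟨hl, hl, h', h'⟩

/-- (MN) the normaliser of `Pp q` -/
theorem norm_Pp (q : ℕ) (hq1 : 1 ≤ q) (h2 : (2 : F) ≠ 0) (hP : ∀ l : Fˣ, l ^ (q ^ 2) = l)
    (hpm : ∀ l : Fˣ, l ∈ Lam2 F → l ^ (q - 1) = 1 ∨ l ^ (q - 1) = -1)
    (hroot : ∀ l : Fˣ, l ∈ Lam2 F → l ^ (q - 1) = 1 → ∃ μ : Fˣ, μ ∈ Lam2 F ∧ μ ^ (q + 1) = l)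
    (h8 : ∃ l : Fˣ, l ∈ Lam2 F ∧ l ^ 4 = -1 ∧ l ^ (q + 1) ≠ 1) :
    ∀ x ∈ Subgroup.normalizer (Pp (F := F) q : Set (GL (Fin 2) F)),
      ∃ l : Fˣ, ∃ p ∈ Pp (F := F) q, x = sc l * p := by
  intro x hx
  obtain ⟨l0, hl0, hl4, hl1⟩ := h8
  have hDc0 : Dc q l0 (l0 ^ q)⁻¹ := Dc_std q hP hl0
  have hd0 : dgl l0 (l0 ^ q)⁻¹ ∈ Pp (F := F) q := dgl_mem_Pp hDc0
  have hxn : ∀ h, h ∈ Pp (F := F) q ↔ x * h * x⁻¹ ∈ Pp (F := F) q :=
    Subgroup.mem_normalizer_iff.1 hx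
  have hconj : x * dgl l0 (l0 ^ q)⁻¹ * x⁻¹ ∈ Pp (F := F) q := (hxn _).1 hd0
  obtain ⟨l, m, hlm, hc | hc⟩ := mem_Pp.1 hconj
  · have hab : ((l0 : Fˣ) : F) ≠ (((l0 ^ q)⁻¹ : Fˣ) : F) := by
      intro e
      have e' : l0 = (l0 ^ q)⁻¹ := Units.ext e
      apply hl1
      rw [pow_succ']
      nth_rewrite 1 [e']
      exact inv_mul_cancel _
    rcases Cfsg.Agent.Helper63.PronBU1.monomial_of_conj x _ _ _ _ hab hc with ⟨u, v, rfl⟩ | ⟨u, v, rfl⟩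
    · have : dgl u v * tau * (dgl u v)⁻¹ ∈ Pp (F := F) q := (hxn _).1 (tau_mem_Pp q)
      exact Cfsg.Agent.Helper64.PronBU1.diag_normalizer q hq1 hP hroot u v this
    · have h1 := (hxn _).1 (tau_mem_Pp q)
      have key : dgl u v * tau * (dgl u v)⁻¹
          = tau⁻¹ * ((tau * dgl u v) * tau * (tau * dgl u v)⁻¹) * tau := by group
      have hmem : dgl u v * tau * (dgl u v)⁻¹ ∈ Pp (F := F) q := by
        rw [key]
        exact (Pp q).mul_mem ((Pp q).mul_mem ((Pp q).inv_mem (tau_mem_Pp q)) h1) (tau_mem_Pp q)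
      obtain ⟨s, p, hp, hsp⟩ := Cfsg.Agent.Helper64.PronBU1.diag_normalizer q hq1 hP hroot u v hmem
      refine ⟨s, tau * p, (Pp q).mul_mem (tau_mem_Pp q) hp, ?_⟩
      rw [hsp, ← mul_assoc, ← mul_assoc, sc_comm]
  · exfalso
    have h4 := Cfsg.Agent.Helper46.PronBU1.tau_dgl_pow_four q hq1 hpm hlm
    rw [← hc, conj_pow] at h4
    have h5 : (dgl l0 (l0 ^ q)⁻¹ : GL (Fin 2) F) ^ 4 = 1 := by
      have := congrArg (fun y => x⁻¹ * y * x) h4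
      simpa [mul_assoc] using this
    rw [dgl_pow, ← dgl_one] at h5
    have h6 := (dgl_injective h5).1
    rw [hl4] at h6
    exact neg_one_ne_one_units h2 h6

/-- (MP) the invariant package for `Pp q` -/
theorem invP_Pp (q : ℕ) (hq1 : 1 ≤ q) (h2 : (2 : F) ≠ 0) (hP : ∀ l : Fˣ, l ^ (q ^ 2) = l)
    (hpm : ∀ l : Fˣ, l ∈ Lam2 F → l ^ (q - 1) = 1 ∨ l ^ (q - 1) = -1)
    (hroot : ∀ l : Fˣ, l ∈ Lam2 F → l ^ (q - 1) = 1 → ∃ μ : Fˣ, μ ∈ Lam2 F ∧ μ ^ (q + 1) = l)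
    (h8 : ∃ l : Fˣ, l ∈ Lam2 F ∧ l ^ 4 = -1 ∧ l ^ (q + 1) ≠ 1)
    (hI : ∃ i : Fˣ, i * i = -1 ∧ i ^ q = i)
    (hG : ∃ l : Fˣ, l ∈ Lam2 F ∧ l ^ (q - 1) = -1) : InvP (Pp (F := F) q) := by
  obtain ⟨i, hii, hiq⟩ := hI
  obtain ⟨g, hg, hgq⟩ := hG
  have hi4 : i ^ 4 = 1 := by
    have : i ^ 4 = (i * i) * (i * i) := by
      rw [show (4 : ℕ) = 2 + 2 from rfl, pow_add, pow_two]
    rw [this, hii]
    simp
  have hiL : i ∈ Lam2 F := ⟨2, by simpa using hi4⟩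
  have hDi : Dc q i i⁻¹ := by
    have := Dc_std q hP hiL
    rwa [hiq] at this
  have hine : ((i : Fˣ) : F) ≠ ((i⁻¹ : Fˣ) : F) := by
    intro e
    have e' : i = i⁻¹ := Units.ext e
    have h1 : i * i = 1 := by
      nth_rewrite 2 [e']
      exact mul_inv_cancel i
    rw [hii] at h1
    exact neg_one_ne_one_units h2 h1
  have hDg : Dc q g (g ^ q)⁻¹ := Dc_std q hP hg
  have hiF : (i : F) * (i : F) = -1 := by
    have := congrArg Units.val hii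
    simpa using this
  have hi0 : (i : F) ≠ 0 := i.ne_zero
  have hiF' : (i : F)⁻¹ * (i : F)⁻¹ = -1 := by
    rw [← mul_inv, hiF]
    norm_num
  have hsq : ((dgl i i⁻¹ : GL (Fin 2) F) : Matrix (Fin 2) (Fin 2) F)
      * ((dgl i i⁻¹ : GL (Fin 2) F) : Matrix (Fin 2) (Fin 2) F) = -1 := by
    rw [dgl_val, Matrix.mul_fin_two]
    ext a b
    fin_cases a <;> fin_cases b <;> simp [hiF, hiF']
  have hdet : ((dgl i i⁻¹ : GL (Fin 2) F) : Matrix (Fin 2) (Fin 2) F).det = 1 := by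
    rw [dgl_val, Matrix.det_fin_two_of]
    simp
  have hgq' : g ^ q = -g := by
    have : g ^ q = g ^ (q - 1) * g := by rw [← pow_succ, Nat.sub_add_cancel hq1]
    rw [this, hgq, neg_one_mul]
  have hgdet : ((tau * dgl g (g ^ q)⁻¹ : GL (Fin 2) F) : Matrix (Fin 2) (Fin 2) F).det = 1 := by
    have hu : g * (g ^ q)⁻¹ = -1 := by
      rw [hgq', ← neg_inv, mul_neg, mul_inv_cancel]
    have huF : (g : F) * (((g ^ q)⁻¹ : Fˣ) : F) = -1 := by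
      have := congrArg Units.val hu
      simpa using this
    rw [Units.val_mul, Matrix.det_mul, tau_val, dgl_val, Matrix.det_fin_two_of,
      Matrix.det_fin_two_of]
    simp only [mul_zero, mul_one, zero_sub, sub_zero]
    rw [huF]
    norm_num
  have hone : ((1 : GL (Fin 2) F) : Matrix (Fin 2) (Fin 2) F).det ^ 2 = 1 := by simp
  have hcomm : ∀ X : Matrix (Fin 2) (Fin 2) F,
      (∀ a ∈ Pp (F := F) q, (a : Matrix (Fin 2) (Fin 2) F) * X = X * (a : Matrix (Fin 2) (Fin 2) F)) →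
      ∃ l : F, X = l • 1 := by
    intro X hX
    exact Cfsg.Agent.Helper63.PronBU1.comm6_scalar i i⁻¹ 1 1 hine X (hX _ (dgl_mem_Pp hDi)) (hX _ (tau_dgl_mem_Pp (Dc.one q)))
  refine
    { two := Cfsg.Agent.Helper87.PronBU1.two_Pp q
      comm := hcomm
      norm := norm_Pp q hq1 h2 hP hpm hroot h8
      neg := ⟨dgl i i⁻¹, dgl_mem_Pp hDi, hsq⟩
      comm6 := ?_
      neg1 := ⟨dgl i i⁻¹, dgl_mem_Pp hDi, hsq, hdet⟩ }
  intro X hX
  have h1 := hX _ (dgl_mem_Pp hDi) ⟨1, (Pp q).one_mem, by rw [hdet, hone]⟩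
  have h2' := hX _ (tau_dgl_mem_Pp hDg) ⟨1, (Pp q).one_mem, by rw [hgdet, hone]⟩
  exact Cfsg.Agent.Helper63.PronBU1.comm6_scalar i i⁻¹ g (g ^ q)⁻¹ hine X h1 h2'

/-- (TOP) the deliverable -/
theorem exists_SD_unitary {F : Type*} [Field F] [Fintype F] (q : ℕ)
    (hF : Fintype.card F = q ^ 2) (h2 : (2 : F) ≠ 0)
    (hns : ¬ ∃ i : F, i * i = -1 ∧ i ^ (q + 1) = 1) :
    ∃ P : Subgroup (GL (Fin 2) F), InvP P ∧
      (∀ l : Fˣ, l ^ (q + 1) = 1 → (∃ k : ℕ, l ^ (2 ^ k) = 1) → sc l ∈ P) ∧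
      ∀ a ∈ P, Uq q (a : Matrix (Fin 2) (Fin 2) F) := by
  classical
  have hodd := Cfsg.Agent.Helper35.SuBNZETA.odd_of_two_ne_zero q hF h2
  have hq1 : 1 ≤ q := hodd.pos
  obtain ⟨σ, hσ, -⟩ := Cfsg.Agent.Helper35.SuBNLAM.exists_frob (F := F) q hF
  obtain ⟨ζ, hζ⟩ := Cfsg.Agent.Helper35.SuBNZETA.exists_zeta (F := F) q hF
  have hζ0 : ζ ≠ 0 := by
    rintro rfl
    simp at hζ
  have hO : ∀ n, n ∣ q ^ 2 - 1 → ∃ x : Fˣ, orderOf x = n :=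
    fun n hn => Cfsg.Agent.Helper10.PronBU1.exists_orderOf (F := F) q hF n hn
  have h8dvd : 8 ∣ q ^ 2 - 1 := Nat.eight_dvd_sq_sub_one_of_odd hodd
  have h4dvd : 4 ∣ q ^ 2 - 1 := dvd_trans (by norm_num) h8dvd
  have hq4 := Cfsg.Agent.Helper87.PronBU1.q_mod_four q hF h2 hns (hO 4 h4dvd)
  have hq1' : 1 < q := by
    rcases Nat.lt_or_ge 1 q with h | h
    · exact h
    · exfalso
      have hq : q = 1 := le_antisymm h hq1
      have h1 : 1 < Fintype.card F := Fintype.one_lt_card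
      rw [hF, hq] at h1
      simp at h1
  have hP1 := units_pow_card (F := F) q hF
  have hP := units_pow_card' (F := F) q hF
  have hpm := Cfsg.Agent.Helper10.PronBU1.lam2_pow_pm (F := F) q hq4 hP1
  have hI := Cfsg.Agent.Helper66.PronBU1.exists_I (F := F) q hq4 (hO 4 h4dvd)
  have hG := Cfsg.Agent.Helper53.PronBU1.exists_gen (F := F) q hq4 hq1' hO hpm
  have h8 := Cfsg.Agent.Helper48.PronBU1.exists_eight (F := F) q hq4 (hO 8 h8dvd)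
  have hroot : ∀ l : Fˣ, l ∈ Lam2 F → l ^ (q - 1) = 1 → ∃ μ : Fˣ, μ ∈ Lam2 F ∧ μ ^ (q + 1) = l :=
    fun l hl h1 => Cfsg.Agent.Helper64.PronBU1.exists_root (F := F) q hF h2 hq4 l hl h1
  have hInv := invP_Pp (F := F) q hq1 h2 hP hpm hroot h8 hI hG
  refine ⟨cj (gz ζ h2 hζ0) (Pp q), Cfsg.Agent.Helper12.PronBU1.invP_cj _ _ hInv, ?_, ?_⟩
  · intro l hl1 hl2
    rw [mem_cj]
    refine ⟨sc l, sc_mem_Pp q l hl2 hl1, ?_⟩
    rw [← sc_comm, mul_assoc, mul_inv_cancel, mul_one]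
  · intro a ha
    obtain ⟨b, hb, rfl⟩ := mem_cj.1 ha
    exact Cfsg.Agent.Helper53.PronBU1.Uq_conj q σ hσ _ b (by rw [gz_val]; exact Cfsg.Agent.Helper12.PronBU1.gz_form q σ hσ ζ hζ h2)
      (Cfsg.Agent.Helper48.PronBU1.hyp_Pp q (by omega) b hb)

end Cfsg.Agent.Helper68.PronBU1
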